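import Groth.Agent.RelProjFP16.Model
import Groth.Agent.RelProjFlat16.Main
import Groth.Agent.ProjQX.AwayBC
import Groth.Agent.GrModX.FiniteShift
import Groth.Agent.QCoh.FT
import Mathlib.RingTheory.RingHom.FinitePresentation

/-!
# Finite presentation over the standard opens of `Proj` of a finitely presented graded algebra
-/

set_option autoImplicit false
set_option backward.isDefEq.respectTransparency false
set_option backward.isDefEq.respectTransparency.types false
set_option linter.style.haveILetI false
set_option linter.unusedSectionVars false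

universe u

open CategoryTheory AlgebraicGeometry TopologicalSpace DirectSum Opposite TensorProduct
open HomogeneousLocalization (Away)
open scoped HomogeneousIdeal

noncomputable section

namespace Groth.Agent.RelProjFP16

open Groth.Agent Groth.Agent.AdjunctBC16

section BC

variable {S S' : Type u} [CommRing S] [CommRing S'] (σ : S →+* S') {M P : Type u} [AddCommGroup M] [Module S M]
  [AddCommGroup P] [Module S' P] (e : M →+ P) (he : ∀ r m, e (r • m) = σ r • e m) (h : IsBC σ e)

include he h in
theorem finitePresentation_of_isBC [Module.FinitePresentation S M] : Module.FinitePresentation S' P := by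
  letI := σ.toAlgebra
  letI : Module S P := Module.compHom P σ
  haveI : IsScalarTower S S' P := IsScalarTower.of_algebraMap_smul fun _ _ => rfl
  let l : M →ₗ[S] P := { e with map_smul' := he }
  refine FinitePresentation.of_isBaseChange l (IsBaseChange.of_lift_unique _ fun Q _ _ _ _ g => ?_)
  letI : AddCommGroup Q := Module.addCommMonoidToAddCommGroup S'
  obtain ⟨L, hL, hu⟩ := h Q g.toAddMonoidHom fun r m => by
    show g (r • m) = σ r • g m
    rw [map_smul, ← IsScalarTower.algebraMap_smul S' r (g m)]
    rfl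
  exact ⟨L, LinearMap.ext hL, fun L' hL' => hu L' fun x => LinearMap.congr_fun hL' x⟩

/-- A semilinear bijection transports finite presentation. -/
theorem finitePresentation_of_semilinear (hσ : Function.Bijective σ) (hb : Function.Bijective e) (he' : ∀ r m, e (r • m) = σ r • e m)
    [Module.FinitePresentation S' P] : Module.FinitePresentation S M := by
  let ρ := (RingEquiv.ofBijective σ hσ).symm
  let b := (AddEquiv.ofBijective e hb).symm
  have hρ : ∀ r, σ (ρ r) = r := fun r => (RingEquiv.ofBijective σ hσ).apply_symm_apply r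
  have hb' : ∀ x, e (b x) = x := fun x => (AddEquiv.ofBijective e hb).apply_symm_apply x
  refine finitePresentation_of_isBC ρ.toRingHom b.toAddMonoidHom (fun r x => hb.1 ?_) fun Q _ _ w hw => ?_
  · show e (b (r • x)) = e (ρ r • b x)
    rw [he', hb', hρ, hb']
  · refine ⟨{ toFun := fun m => w (e m), map_add' := fun x y => by rw [map_add, map_add], map_smul' := fun r m => ?_ },
      fun x => congrArg w (hb' x), fun L hL => LinearMap.ext fun m => ?_⟩
    · show w (e (r • m)) = r • w (e m)
      rw [he', hw]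
      show ρ (σ r) • _ = _
      rw [show ρ (σ r) = r from (RingEquiv.ofBijective σ hσ).symm_apply_apply r]
    · show L m = w (e m)
      rw [← hL (e m)]
      exact congrArg L ((AddEquiv.ofBijective e hb).symm_apply_apply m).symm

end BC

section Noetherian

variable {R A σ : Type u} [CommRing R] [CommRing A] [Algebra R A] [SetLike σ A] [AddSubgroupClass σ A]
  (𝒜 : ℕ → σ) [GradedRing 𝒜] (hA : ∀ r, algebraMap R A r ∈ 𝒜 0)

/-- The structure map to the degree-zero part. -/
def zeroHom : R →+* 𝒜 0 := (algebraMap R A).codRestrict (SetLike.GradeZero.subring 𝒜) hA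

include hA in
theorem zeroHom_finiteType [Algebra.FiniteType R A] : (zeroHom 𝒜 hA).FiniteType := by
  have e : (GradedRing.projZeroRingHom' 𝒜).comp (algebraMap R A) = zeroHom 𝒜 hA :=
    RingHom.ext fun r => Subtype.ext (decompose_of_mem_same _ (hA r))
  rw [← e]
  exact (RingHom.finiteType_algebraMap.2 inferInstance).comp_surjective (GradedRing.projZeroRingHom'_surjective _)

include hA in
theorem finiteType_zero [Algebra.FiniteType R A] : Algebra.FiniteType (𝒜 0) A := by
  letI := (zeroHom 𝒜 hA).toAlgebra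
  haveI : IsScalarTower R (𝒜 0) A := IsScalarTower.of_algebraMap_eq fun _ => rfl
  exact Algebra.FiniteType.of_restrictScalars_finiteType R (𝒜 0) A

variable [IsNoetherianRing R] [Algebra.FiniteType R A] {d : ℕ} {f : A} (hf : f ∈ 𝒜 d)

include hA hf in
theorem strA_finiteType : (ProjQX.AwayBC.strA (f := f) hA).FiniteType := by
  haveI := finiteType_zero 𝒜 hA
  haveI := Away.finiteType (𝒜 := 𝒜) f d hf
  exact RingHom.FiniteType.comp (RingHom.finiteType_algebraMap.2 (inferInstance : Algebra.FiniteType (𝒜 0) (Away 𝒜 f)))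
    (zeroHom_finiteType 𝒜 hA)

include hA hf in
theorem isNoetherianRing_section (hd : 0 < d) : IsNoetherianRing Γ(Proj 𝒜, Proj.basicOpen 𝒜 f) := by
  letI := (ProjQX.AwayBC.strA (f := f) hA).toAlgebra
  haveI : Algebra.FiniteType R (Away 𝒜 f) := strA_finiteType 𝒜 hA hf
  haveI : IsNoetherianRing (Away 𝒜 f) := Algebra.FiniteType.isNoetherianRing R _
  exact isNoetherianRing_of_ringEquiv _ (Proj.basicOpenIsoAway 𝒜 f hf hd).commRingCatIsoToRingEquiv

include hA hf in
theorem finitePresentation_tilde (hd : 0 < d) (n : ℤ) :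
    Module.FinitePresentation Γ(Proj 𝒜, Proj.basicOpen 𝒜 f) Γ(GrMod.tilde 𝒜 𝒜 n, Proj.basicOpen 𝒜 f) := by
  haveI : IsNoetherianRing A := Algebra.FiniteType.isNoetherianRing R A
  haveI := isNoetherianRing_section 𝒜 hA hf hd
  haveI : Module.Finite Γ(Proj 𝒜, Proj.basicOpen 𝒜 f) Γ(GrMod.tilde 𝒜 𝒜 n, Proj.basicOpen 𝒜 f) :=
    QCoh.finite_of_isFT (GrModX.isQCoh_tilde 𝒜 𝒜 n)
      (GrModX.isFT_tilde_shift 𝒜 𝒜 ((isNoetherianRing_iff_ideal_fg A).1 inferInstance _) n 0 (IsNoetherian.noetherian _))
      (Proj.isAffineOpen_basicOpen 𝒜 f hf hd)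
  exact Module.finitePresentation_of_finite _ _

end Noetherian

theorem finitePresentation_of_isPushout {R S T P : CommRingCat.{u}} {f : R ⟶ S} {g : R ⟶ T} {i : S ⟶ P} {j : T ⟶ P}
    (h : IsPushout f g i j) (H : g.hom.FinitePresentation) : i.hom.FinitePresentation := by
  rw [← h.inl_isoPushout_inv, CommRingCat.hom_comp, RingHom.finitePresentation_respectsIso.cancel_right_isIso]
  exact RingHom.finitePresentation_isStableUnderBaseChange.pushout_inl RingHom.finitePresentation_respectsIso f g H

section Affine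

variable {R A σ : Type u} [CommRing R] [CommRing A] [Algebra R A] [SetLike σ A] [AddSubgroupClass σ A]
  (𝒜 : ℕ → σ) [GradedRing 𝒜] (hA : ∀ r, algebraMap R A r ∈ 𝒜 0)

set_option maxHeartbeats 1000000 in
include hA in
/-- Around every point of `Proj` of a finitely presented graded algebra there is a standard open over which the
structure map and the twisting sheaves are finitely presented. -/
theorem exists_finitePresentation [Algebra.FinitePresentation R A] (y : ProjectiveSpectrum 𝒜) :
    ∃ (d : ℕ) (f : A), 0 < d ∧ f ∈ 𝒜 d ∧ f ∉ y.asHomogeneousIdeal ∧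
      ((Proj.awayToSection 𝒜 f).hom.comp (ProjQX.AwayBC.strA (f := f) hA)).FinitePresentation ∧
      ∀ n : ℤ, Module.FinitePresentation ((Proj 𝒜).presheaf.obj (op (Proj.basicOpen 𝒜 f))) Γ(GrMod.tilde 𝒜 𝒜 n, Proj.basicOpen 𝒜 f) := by
  obtain ⟨R₀, _, _, ι, A₀, _, _, _, 𝒜₀, _, φ, hι, hbc⟩ := exists_model 𝒜 hA
  have hA₀ : ∀ r, algebraMap R₀ A₀ r ∈ 𝒜₀ 0 := fun r => SetLike.algebraMap_mem_graded _ r
  have hφ : 𝒜₊ ≤ (𝒜₀₊).map φ := by
    refine (HomogeneousIdeal.irrelevant_le _).2 fun i hi b hb => ?_
    have h := mem_span_image φ ι hA hbc hb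
    clear hb
    induction h using Submodule.span_induction with
    | mem b h =>
      obtain ⟨a, ha, rfl⟩ := h
      exact Ideal.mem_map_of_mem _ (HomogeneousIdeal.mem_irrelevant_of_mem _ hi ha)
    | zero => exact zero_mem _
    | add x z _ _ hx hz => exact add_mem hx hz
    | smul r x _ hx => rw [Algebra.smul_def]; exact Ideal.mul_mem_left _ _ hx
  obtain ⟨d, f₀, hd, hf₀, hy⟩ := exists_mem_basicOpen_map φ y hφ
  refine ⟨d, φ f₀, hd, φ.map_mem hf₀, hy, ?_, fun n => ?_⟩
  · letI : Algebra R₀ R := ι.toAlgebra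
    letI : Algebra R₀ A := ((algebraMap R A).comp ι).toAlgebra
    haveI : IsScalarTower R₀ R A := IsScalarTower.of_algebraMap_eq' rfl
    have hl : IsBaseChange R (ProjQX.AwayBC.lin φ hι) :=
      IsBaseChange.of_lift_unique _ fun Q _ _ _ _ g => by
        letI : AddCommGroup Q := Module.addCommMonoidToAddCommGroup R
        obtain ⟨L, hL, hu⟩ := hbc Q g.toAddMonoidHom fun r m => by
          show g (r • m) = ι r • g m
          rw [map_smul, ← IsScalarTower.algebraMap_smul R r (g m)]
          rfl
        exact ⟨L, LinearMap.ext hL, fun L' hL' => hu L' fun x => LinearMap.congr_fun hL' x⟩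
    have hΦ : Function.Bijective (ProjQX.AwayBC.Φ (R' := R) φ hι) := by
      have e : hl.equiv.toLinearMap = ProjQX.AwayBC.Φ (R' := R) φ hι := by
        ext a
        show hl.equiv (1 ⊗ₜ a) = ProjQX.AwayBC.Φ φ hι (1 ⊗ₜ a)
        rw [IsBaseChange.equiv_tmul, ProjQX.AwayBC.Φ_tmul, one_smul, map_one, one_mul]
        rfl
      rw [← e]
      exact hl.equiv.bijective
    have hp := ProjQX.AwayBC.isPushout φ hA₀ hA hι hΦ hf₀
    have h1 : (ProjQX.AwayBC.strB (f := f₀) φ hA).FinitePresentation :=
      finitePresentation_of_isPushout hp (RingHom.FinitePresentation.of_finiteType.1 (strA_finiteType 𝒜₀ hA₀ hf₀))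
    exact RingHom.finitePresentation_respectsIso.1 _
      (Proj.basicOpenIsoAway 𝒜 (φ f₀) (φ.map_mem hf₀) hd).commRingCatIsoToRingEquiv h1
  · haveI := finitePresentation_tilde 𝒜₀ hA₀ hf₀ hd n
    exact finitePresentation_of_isBC _ _ (fun r m => secMap_smul _ _ _ r m)
      (isBC_comap_of_baseRing φ hφ ι hA₀ hA hι hbc hf₀ hd)

end Affine

end Groth.Agent.RelProjFP16
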