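import Groth.Agent.RelProjFP16.Affine
import Groth.Agent.AdjunctBC16.Transfer
import Groth.Agent.Proj16.RelBasic
import Mathlib.AlgebraicGeometry.Morphisms.FinitePresentation

/-!
# The relative `Proj` of a finitely presented graded algebra
-/

set_option autoImplicit false
set_option backward.isDefEq.respectTransparency false
set_option backward.isDefEq.respectTransparency.types false
set_option linter.style.haveILetI false

universe u

open CategoryTheory AlgebraicGeometry TopologicalSpace Opposite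

noncomputable section

namespace Groth.Agent.RelProjFP16

open Groth.Agent

variable {S P : Scheme.{u}} {𝒜 : RelProj.QCGrAlg S} {p : P ⟶ S}
  {chart : ∀ (U : S.Opens) (hU : IsAffineOpen U), (((p ⁻¹ᵁ U : P.Opens) : Scheme.{u}) ≅ Proj (𝒜.deg U hU))}
  (hfp : ∀ (U : S.Opens), IsAffineOpen U → RingHom.FinitePresentation (𝒜.str.app (op U)).hom)

include hfp in
theorem exists_good (x : P) :
    ∃ (U : S.Opens) (hU : IsAffineOpen U) (f : 𝒜.presheaf.obj (op U)) (d : ℕ), 0 < d ∧ f ∈ 𝒜.deg U hU d ∧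
      x ∈ RelProj.emb p chart U hU ''ᵁ Proj.basicOpen (𝒜.deg U hU) f ∧
      RingHom.FinitePresentation ((RelProjFlat16.zeroToSection (𝒜.deg U hU) f).hom.comp (𝒜.strZero U hU).hom) ∧
      ∀ n : ℤ, Module.FinitePresentation ((Proj (𝒜.deg U hU)).presheaf.obj (op (Proj.basicOpen (𝒜.deg U hU) f)))
        Γ(GrMod.tilde (𝒜.deg U hU) (𝒜.deg U hU) n, Proj.basicOpen (𝒜.deg U hU) f) := by
  obtain ⟨_, ⟨U, hU, rfl⟩, hxU, -⟩ := S.isBasis_affineOpens.exists_subset_of_mem_open (Set.mem_univ (p x)) isOpen_univ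
  have hxr : x ∈ (RelProj.emb p chart U hU).opensRange := by rw [RelTildeX.opensRange_emb]; exact hxU
  obtain ⟨y, rfl⟩ := hxr
  letI : Algebra Γ(S, U) (𝒜.presheaf.obj (op U)) := (𝒜.str.app (op U)).hom.toAlgebra
  haveI : Algebra.FinitePresentation Γ(S, U) (𝒜.presheaf.obj (op U)) := hfp U hU
  obtain ⟨d, f, hd, hf, hy, hr, hm⟩ := exists_finitePresentation (𝒜.deg U hU) (fun r => 𝒜.str_mem U hU r) y
  exact ⟨U, hU, f, d, hd, hf, ⟨y, hy, rfl⟩, hr, hm⟩

include hfp in
theorem locallyOfFinitePresentation (hP : RelProj.IsRelProj 𝒜 p chart) : LocallyOfFinitePresentation p := by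
  refine (HasRingHomProperty.iff_exists_appLE (P := @LocallyOfFinitePresentation)
    (RingHom.finitePresentation_stableUnderComposition.stableUnderCompositionWithLocalizationAway RingHom.finitePresentation_holdsForLocalizationAway).left).2 fun x => ?_
  obtain ⟨U, hU, f, d, hd, hf, hx, hr, -⟩ := exists_good (chart := chart) hfp x
  let emb := RelProj.emb p chart U hU
  have hD := Proj.isAffineOpen_basicOpen (𝒜.deg U hU) f hf hd
  have hle : emb ''ᵁ Proj.basicOpen (𝒜.deg U hU) f ≤ p ⁻¹ᵁ U :=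
    (emb.image_le_opensRange _).trans (RelTildeX.opensRange_emb p chart U hU).le
  refine ⟨⟨U, hU⟩, ⟨_, hD.image_of_isOpenImmersion emb⟩, hx, hle, ?_⟩
  have h2 : (p.appLE U _ hle ≫ (emb.appIso (Proj.basicOpen (𝒜.deg U hU) f)).hom).hom.FinitePresentation := by
    rw [Scheme.Hom.appIso_hom', Scheme.Hom.appLE_comp_appLE, RelProjFlat16.emb_appLE hP U hU hd hf]
    exact hr
  rwa [CommRingCat.hom_comp, RingHom.finitePresentation_respectsIso.cancel_right_isIso] at h2

include hfp in
theorem isFP_twist {d : ℤ} {Od : P.Modules}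
    {lam : ∀ (U : S.Opens) (hU : IsAffineOpen U),
      Od ⟶ (Scheme.Modules.pushforward (RelProj.emb p chart U hU)).obj (GrTwist.twist (𝒜.deg U hU) d)}
    (hd : RelProj.IsRelTwist 𝒜 p chart d Od lam) : CohB1.IsFP Od := by
  choose U hU f k hk hf hx _ hm using exists_good (p := p) (chart := chart) hfp
  let V : P → P.Opens := fun x => RelProj.emb p chart (U x) (hU x) ''ᵁ Proj.basicOpen (𝒜.deg (U x) (hU x)) (f x)
  refine QCoh.isFP_of_finitePresentation (RelTildeX.isQCoh_twist hd) V
    (IsOpenCover.mk (top_le_iff.1 fun x _ => Opens.mem_iSup.2 ⟨x, hx x⟩))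
    (fun x => (Proj.isAffineOpen_basicOpen _ (f x) (hf x) (hk x)).image_of_isOpenImmersion _) fun x => ?_
  let e := RelProj.emb p chart (U x) (hU x)
  let D := Proj.basicOpen (𝒜.deg (U x) (hU x)) (f x)
  haveI : Module.FinitePresentation Γ(Proj (𝒜.deg (U x) (hU x)), D) Γ(GrTwist.twist (𝒜.deg (U x) (hU x)) d, D) :=
    hm x d
  exact finitePresentation_of_semilinear (AdjunctBC16.chartRing e (D := D) (V := V x) (e.preimage_image_eq D).ge)
    (AdjunctBC16.chartSec e (lam (U x) (hU x)) (D := D) (V := V x) (e.preimage_image_eq D).ge)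
    (AdjunctBC16.bijective_chartRing e)
    (AdjunctBC16.bijective_chartSec e _ fun W hW =>
      hd.bijective (U x) (hU x) W (hW.trans (RelTildeX.opensRange_emb p chart (U x) (hU x)).le))
    fun r m => AdjunctBC16.secMap_smul e (lam (U x) (hU x)) _ r m

end Groth.Agent.RelProjFP16
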