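import Groth.Agent.AdjunctBC16.BaseRing
import Groth.Agent.Proj16.QuotGraded
import Mathlib.RingTheory.MvPolynomial.WeightedHomogeneous
import Mathlib.RingTheory.FinitePresentation

/-!
# Finitely presented graded algebras descend to Noetherian rings
-/

set_option autoImplicit false
set_option backward.isDefEq.respectTransparency false
set_option backward.isDefEq.respectTransparency.types false
set_option linter.style.haveILetI false
set_option linter.unusedSectionVars false

universe u

open DirectSum MvPolynomial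

noncomputable section

namespace Groth.Agent.RelProjFP16

open Groth.Agent Groth.Agent.AdjunctBC16

attribute [local instance] MvPolynomial.weightedGradedAlgebra

variable {R A σ : Type u} [CommRing R] [CommRing A] [Algebra R A] [SetLike σ A] [AddSubgroupClass σ A]
  (𝒜 : ℕ → σ) [GradedRing 𝒜] (hA : ∀ r, algebraMap R A r ∈ 𝒜 0)

include hA in
theorem algebraMap_mul_mem {i : ℕ} {a : A} (ha : a ∈ 𝒜 i) (r : R) : algebraMap R A r * a ∈ 𝒜 i := by
  simpa using SetLike.mul_mem_graded (hA r) ha

include hA in
/-- Homogeneous algebra generators. -/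
theorem exists_homogeneous_generators [Algebra.FiniteType R A] :
    ∃ (κ : Type u) (_ : Finite κ) (w : κ → ℕ) (x : κ → A), (∀ i, x i ∈ 𝒜 (w i)) ∧
      Function.Surjective (MvPolynomial.aeval x : MvPolynomial κ R →ₐ[R] A) := by
  classical
  obtain ⟨s, hs⟩ := (inferInstance : Algebra.FiniteType R A).out
  let T : Finset (ℕ × A) := s.biUnion fun a => (decompose 𝒜 a).support.image fun i => (i, (decompose 𝒜 a i : A))
  have hT : ∀ q ∈ T, q.2 ∈ 𝒜 q.1 := by
    intro q hq
    obtain ⟨a, -, hq⟩ := Finset.mem_biUnion.1 hq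
    obtain ⟨i, -, rfl⟩ := Finset.mem_image.1 hq
    exact SetLike.coe_mem _
  refine ⟨{q // q ∈ T}, inferInstance, fun q => q.1.1, fun q => q.1.2, fun q => hT q.1 q.2, ?_⟩
  rw [← AlgHom.range_eq_top, eq_top_iff, ← hs, Algebra.adjoin_le_iff]
  intro a ha
  rw [SetLike.mem_coe, ← DirectSum.sum_support_decompose 𝒜 a]
  refine sum_mem fun i hi => ?_
  exact ⟨MvPolynomial.X ⟨(i, _), Finset.mem_biUnion.2 ⟨a, ha, Finset.mem_image.2 ⟨i, hi, rfl⟩⟩⟩, aeval_X _ _⟩

section

variable {κ : Type u} (w : κ → ℕ) (x : κ → A) (hx : ∀ i, x i ∈ 𝒜 (w i))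

include hA hx in
theorem aeval_mem_deg {p : MvPolynomial κ R} {k : ℕ} (hp : p ∈ weightedHomogeneousSubmodule R w k) :
    aeval x p ∈ 𝒜 k := by
  classical
  rw [p.as_sum, map_sum]
  refine sum_mem fun m hm => ?_
  rw [aeval_monomial]
  refine algebraMap_mul_mem 𝒜 hA ?_ _
  have hk : Finsupp.weight w m = k := hp (mem_support_iff.1 hm)
  rw [← hk, Finsupp.weight_apply, Finsupp.prod, Finsupp.sum]
  refine SetLike.prod_mem_graded 𝒜 _ _ fun i _ => ?_
  exact SetLike.pow_mem_graded _ (hx i)

include hA hx in
theorem decompose_aeval (p : MvPolynomial κ R) (k : ℕ) :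
    (decompose 𝒜 (aeval x p) k : A) = aeval x (decompose (weightedHomogeneousSubmodule R w) p k : MvPolynomial κ R) := by
  classical
  induction p using Decomposition.inductionOn (weightedHomogeneousSubmodule R w) with
  | zero => simp
  | add p q hp hq =>
    simp only [map_add, decompose_add, DirectSum.add_apply, AddMemClass.coe_add, Submodule.coe_add, hp, hq]
  | @homogeneous j p =>
    rcases eq_or_ne j k with rfl | hne
    · rw [decompose_of_mem_same 𝒜 (aeval_mem_deg 𝒜 hA w x hx p.2), decompose_of_mem_same _ p.2]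
    · rw [decompose_of_mem_ne 𝒜 (aeval_mem_deg 𝒜 hA w x hx p.2) hne, decompose_of_mem_ne _ p.2 hne, map_zero]

end

theorem monomial_eq_smul {κ : Type u} {T : Type u} [CommRing T] (m : κ →₀ ℕ) (c : T) :
    monomial m c = c • (monomial m 1 : MvPolynomial κ T) := by
  rw [smul_monomial, smul_eq_mul, mul_one]

set_option maxHeartbeats 1000000 in
include hA in
/-- A finitely presented graded algebra is the base change of a graded algebra of finite type over a Noetherian
ring. -/
theorem exists_model [Algebra.FinitePresentation R A] :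
    ∃ (R₀ : Type u) (_ : CommRing R₀) (_ : IsNoetherianRing R₀) (ι : R₀ →+* R) (A₀ : Type u) (_ : CommRing A₀)
      (_ : Algebra R₀ A₀) (_ : Algebra.FiniteType R₀ A₀) (𝒜₀ : ℕ → Submodule R₀ A₀) (_ : GradedAlgebra 𝒜₀)
      (φ : 𝒜₀ →+*ᵍ 𝒜), (∀ r, φ (algebraMap R₀ A₀ r) = algebraMap R A (ι r)) ∧
        IsBC ι φ.toRingHom.toAddMonoidHom := by
  classical
  obtain ⟨κ, _, w, x, hx, hsurj⟩ := exists_homogeneous_generators 𝒜 hA
  obtain ⟨G, hG⟩ := Algebra.FinitePresentation.ker_fG_of_surjective (R := R) (aeval x) hsurj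
  -- the homogeneous components of the relations
  let J : Finset (ℕ × MvPolynomial κ R) := G.biUnion fun p =>
    (decompose (weightedHomogeneousSubmodule R w) p).support.image fun k =>
      (k, (decompose (weightedHomogeneousSubmodule R w) p k : MvPolynomial κ R))
  have hJ : ∀ q ∈ J, q.2 ∈ weightedHomogeneousSubmodule R w q.1 ∧ aeval x q.2 = 0 := by
    intro q hq
    obtain ⟨p, hp, hq⟩ := Finset.mem_biUnion.1 hq
    obtain ⟨k, -, rfl⟩ := Finset.mem_image.1 hq
    refine ⟨SetLike.coe_mem _, ?_⟩
    have hp0 : aeval x p = 0 := by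
      have : p ∈ RingHom.ker (aeval x : MvPolynomial κ R →ₐ[R] A).toRingHom := hG ▸ Ideal.subset_span hp
      exact this
    rw [← decompose_aeval 𝒜 hA w x hx, hp0, decompose_zero]
    rfl
  -- the Noetherian ring
  let C : Finset R := J.biUnion fun q => q.2.coeffs
  let S := Algebra.adjoin ℤ (C : Set R)
  haveI : Algebra.FiniteType ℤ S := (Subalgebra.fg_iff_finiteType _).1 ⟨C, rfl⟩
  haveI : IsNoetherianRing S := Algebra.FiniteType.isNoetherianRing ℤ _
  let ι : S →+* R := S.val.toRingHom
  have hι : Function.Injective ι := Subtype.val_injective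
  have hlift : ∀ q : {q // q ∈ J}, ∃ r : MvPolynomial κ S, MvPolynomial.map ι r = q.1.2 := fun q =>
    MvPolynomial.mem_range_map_iff_coeffs_subset.2 fun c hc =>
      ⟨⟨c, Algebra.subset_adjoin (Finset.mem_biUnion.2 ⟨q.1, q.2, hc⟩)⟩, rfl⟩
  choose r hr using hlift
  have hrdeg : ∀ q, r q ∈ weightedHomogeneousSubmodule S w q.1.1 := by
    intro q m hm
    refine (hJ q.1 q.2).1 ?_
    rw [← hr q, coeff_map]
    exact fun h => hm (hι (h.trans (map_zero ι).symm))
  let I : Ideal (MvPolynomial κ S) := Ideal.span (Set.range r)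
  have hI : I.IsHomogeneous (weightedHomogeneousSubmodule S w) :=
    Ideal.homogeneous_span _ _ (by rintro _ ⟨q, rfl⟩; exact ⟨_, hrdeg q⟩)
  letI := Proj16.quotGradedAlgebra (weightedHomogeneousSubmodule S w) I hI
  let π : MvPolynomial κ S →+* A := (aeval x : MvPolynomial κ R →ₐ[R] A).toRingHom.comp (MvPolynomial.map ι)
  have hπ : ∀ p ∈ I, π p = 0 := fun p hp => by
    have : I ≤ RingHom.ker π := Ideal.span_le.2 (by
      rintro _ ⟨q, rfl⟩
      show aeval x (MvPolynomial.map ι (r q)) = 0
      rw [hr]; exact (hJ q.1 q.2).2)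
    exact this hp
  let φ : Proj16.quotGrading (weightedHomogeneousSubmodule S w) I →+*ᵍ 𝒜 :=
    { Ideal.Quotient.lift I π hπ with
      map_mem := by
        rintro k _ ⟨p, hp, rfl⟩
        show π p ∈ 𝒜 k
        refine aeval_mem_deg 𝒜 hA w x hx fun m hm => hp ?_
        rw [coeff_map] at hm
        exact fun h => hm (by rw [h, map_zero]) }
  have hφr : ∀ c : S, φ (algebraMap S _ c) = algebraMap R A (ι c) := fun c => by
    show aeval x (MvPolynomial.map ι (algebraMap S (MvPolynomial κ S) c)) = _
    rw [MvPolynomial.algebraMap_eq, map_C, aeval_C]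
  refine ⟨S, inferInstance, inferInstance, ι, MvPolynomial κ S ⧸ I, inferInstance, inferInstance, inferInstance,
    _, inferInstance, φ, hφr, ?_⟩
  intro Q _ _ u hu
  -- the linear map on polynomials
  let W : MvPolynomial κ R →ₗ[R] Q :=
    (basisMonomials κ R).constr R fun m => u (Ideal.Quotient.mk I (monomial m 1))
  have hW1 : ∀ m, W (monomial m 1) = u (Ideal.Quotient.mk I (monomial m 1)) := fun m => by
    have h := (basisMonomials κ R).constr_basis R (fun m => u (Ideal.Quotient.mk I (monomial m 1))) m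
    simpa using h
  have hW : ∀ p : MvPolynomial κ S, W (MvPolynomial.map ι p) = u (Ideal.Quotient.mk I p) := fun p => by
    induction p using MvPolynomial.induction_on' with
    | monomial m c =>
      rw [map_monomial, monomial_eq_smul m (ι c), map_smul, hW1, ← hu, monomial_eq_smul m c]
      rfl
    | add p q hp hq => rw [map_add, map_add, map_add, map_add, hp, hq]
  have hker : LinearMap.ker (aeval x : MvPolynomial κ R →ₐ[R] A).toLinearMap ≤ LinearMap.ker W := by
    intro p hp
    have hp1 : p ∈ RingHom.ker (aeval x : MvPolynomial κ R →ₐ[R] A).toRingHom := hp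
    have hle : Ideal.span (G : Set (MvPolynomial κ R)) ≤ Ideal.span (Set.range fun q => MvPolynomial.map ι (r q)) := by
      rw [Ideal.span_le]
      intro g hg
      rw [SetLike.mem_coe, ← DirectSum.sum_support_decompose (weightedHomogeneousSubmodule R w) g]
      refine Ideal.sum_mem _ fun k hk => Ideal.subset_span
        ⟨⟨(k, _), Finset.mem_biUnion.2 ⟨g, hg, Finset.mem_image.2 ⟨k, hk, rfl⟩⟩⟩, hr _⟩
    have hp2 := hle (hG.symm ▸ hp1)
    obtain ⟨c, rfl⟩ := (Ideal.mem_span_range_iff_exists_fun (R := MvPolynomial κ R)).1 hp2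
    rw [LinearMap.mem_ker, map_sum]
    refine Finset.sum_eq_zero fun q _ => ?_
    generalize c q = b
    induction b using MvPolynomial.induction_on' with
    | monomial m s =>
      rw [monomial_eq_smul m s, smul_mul_assoc, map_smul,
        show (monomial m (1 : R)) = MvPolynomial.map ι (monomial m (1 : S)) by rw [MvPolynomial.map_monomial, map_one ι],
        ← map_mul, hW, Ideal.Quotient.eq_zero_iff_mem.2 (I.mul_mem_left _ (Ideal.subset_span ⟨q, rfl⟩)),
        map_zero, smul_zero]
    | add b b' h h' => rw [add_mul, map_add, h, h', add_zero]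
  let e := LinearMap.quotKerEquivOfSurjective (aeval x : MvPolynomial κ R →ₐ[R] A).toLinearMap hsurj
  let L : A →ₗ[R] Q := (Submodule.liftQ _ W hker) ∘ₗ e.symm.toLinearMap
  have hL : ∀ p, L (aeval x p) = W p := fun p => by
    show Submodule.liftQ _ W hker (e.symm (e (Submodule.Quotient.mk p))) = W p
    rw [LinearEquiv.symm_apply_apply]
    rfl
  refine ⟨L, fun a => ?_, fun L' hL' => LinearMap.ext fun a => ?_⟩
  · obtain ⟨p, rfl⟩ := Ideal.Quotient.mk_surjective a
    exact (hL _).trans (hW p)
  · obtain ⟨p, rfl⟩ := hsurj a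
    rw [hL]
    induction p using MvPolynomial.induction_on' with
    | monomial m s =>
      rw [monomial_eq_smul m s, map_smul, map_smul, map_smul, hW1, ← hL']
      congr 2
      show aeval x _ = aeval x (MvPolynomial.map ι (monomial m 1))
      rw [MvPolynomial.map_monomial, map_one ι]
    | add p q hp hq => rw [map_add, map_add, map_add, hp, hq]

end Groth.Agent.RelProjFP16
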